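import Mathlib

/-!
# S4908, Fi22, COVER for r = 3 (helper494): the arithmetic

`core` : six signed degrees, one exceptional degree and their values at an element of order `7`.
-/

set_option autoImplicit false

namespace Cfsg.Agent.H494.S8.FiNum

/-- the degrees of `Fi22` prime to `13` -/
def Is13 (f : ℤ) : Prop := f = 1 ∨ f = 3080 ∨ f = 360855 ∨ f = 577368 ∨ f = 1360800 ∨ f = 1441792 ∨ f = 138600

/-- `d r^i` is `f`, `2 f` or `f / 2` -/
def Bad (d : ℤ) : Prop := ∃ f, Is13 f ∧ (d = f ∨ d = 2 * f ∨ 2 * d = f)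

theorem bad_one {d δ : ℤ} (hδ : δ = 1 ∨ δ = -1) (h : (13 : ℤ) ∣ δ * d - 6) (hb : Bad (d * 3 ^ 1)) : False := by
  obtain ⟨f, hf, h1⟩ := hb
  unfold Is13 at hf
  rcases hδ with rfl | rfl <;> rcases hf with rfl | rfl | rfl | rfl | rfl | rfl | rfl <;> omega

theorem bad_two {d ε : ℤ} (hε : ε = 1 ∨ ε = -1) (h : (13 : ℤ) ∣ ε * d - 1) (hb : Bad (d * 3 ^ 2)) : False := by
  obtain ⟨f, hf, h1⟩ := hb
  unfold Is13 at hf
  rcases hε with rfl | rfl <;> rcases hf with rfl | rfl | rfl | rfl | rfl | rfl | rfl <;> omega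

theorem bad_ne {d ε : ℤ} (hε : ε = 1 ∨ ε = -1) (h : (13 : ℤ) ∣ ε * d - 1) (h3 : (3 : ℤ) ∣ d) (hb : Bad d) :
    ε * d = 360855 ∨ ε * d = -577368 ∨ ε * d = -1360800 ∨ ε * d = 277200 := by
  obtain ⟨f, hf, h1⟩ := hb
  unfold Is13 at hf
  rcases hε with rfl | rfl <;> rcases hf with rfl | rfl | rfl | rfl | rfl | rfl | rfl <;> omega

theorem bad_ex {d δ : ℤ} (hδ : δ = 1 ∨ δ = -1) (h : (13 : ℤ) ∣ δ * d - 6) (h3 : (3 : ℤ) ∣ d) (hb : Bad d) :
    δ * d = -138600 ∨ δ * d = 288684 ∨ δ * d = 680400 := by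
  obtain ⟨f, hf, h1⟩ := hb
  unfold Is13 at hf
  rcases hδ with rfl | rfl <;> rcases hf with rfl | rfl | rfl | rfl | rfl | rfl | rfl <;> omega

theorem count {a b c e s : ℤ} (ha : 0 ≤ a) (hb : 0 ≤ b) (hc : 0 ≤ c) (he : 0 ≤ e) (h6 : a + b + c + e = 6)
    (hs : s = -138600 ∨ s = 288684 ∨ s = 680400) (h : 360855 * a - 577368 * b - 1360800 * c + 277200 * e = s) :
    a = 4 ∧ b = 2 := by
  have ha6 : a ≤ 6 := by omega
  have hb6 : b ≤ 6 := by omega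
  have hc6 : c ≤ 6 := by omega
  have he6 : e = 6 - a - b - c := by omega
  subst he6
  interval_cases a <;> interval_cases b <;> omega

theorem sq_A {b : ℤ} (h : (7 : ℤ) ∣ b - 360855) : 3 * b + 10 ≤ b ^ 2 := by
  rcases (by omega : b ≤ -2 ∨ 5 ≤ b) with h1 | h1 <;> nlinarith

theorem sq_B {b : ℤ} (h : (7 : ℤ) ∣ b - -577368) : 3 * b + 4 ≤ b ^ 2 := by
  rcases (by omega : b ≤ -1 ∨ 6 ≤ b) with h1 | h1 <;> nlinarith

theorem sq_C {b : ℤ} (h : (7 : ℤ) ∣ b - -1360800) : 3 * b ≤ b ^ 2 := by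
  rcases (by omega : b ≤ 0 ∨ 7 ≤ b) with h1 | h1 <;> nlinarith

theorem sq_E {b : ℤ} (h : (7 : ℤ) ∣ b - 277200) : 3 * b ≤ b ^ 2 := by
  rcases (by omega : b ≤ 0 ∨ 7 ≤ b) with h1 | h1 <;> nlinarith

theorem core {ι : Type*} (NE : Finset ι) (hc : NE.card = 6) (co b : ι → ℤ)
    (hco : ∀ χ ∈ NE, co χ = 360855 ∨ co χ = -577368 ∨ co χ = -1360800 ∨ co χ = 277200)
    (h7 : ∀ χ ∈ NE, (7 : ℤ) ∣ b χ - co χ) {s t : ℤ} (hs : s = -138600 ∨ s = 288684 ∨ s = 680400)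
    (h0 : ∑ χ ∈ NE, co χ = s) (hb : ∑ χ ∈ NE, b χ = t) (hq : ∑ χ ∈ NE, b χ ^ 2 + 2 * t ^ 2 ≤ 42) : False := by
  classical
  set i : ℤ → ι → ℤ := fun A χ => if co χ = A then 1 else 0 with hi
  have hnn : ∀ A, 0 ≤ ∑ χ ∈ NE, i A χ := fun A => Finset.sum_nonneg fun χ _ => by
    show 0 ≤ ite _ _ _
    split <;> norm_num
  have h1 : ∀ χ ∈ NE, i 360855 χ + i (-577368) χ + i (-1360800) χ + i 277200 χ = 1 ∧
      co χ = 360855 * i 360855 χ - 577368 * i (-577368) χ - 1360800 * i (-1360800) χ + 277200 * i 277200 χ ∧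
      3 * b χ + (10 * i 360855 χ + 4 * i (-577368) χ) ≤ b χ ^ 2 := by
    intro χ hχ
    have h2 := h7 χ hχ
    simp only [hi]
    rcases hco χ hχ with h | h | h | h <;> rw [h] at h2 ⊢
    · have := sq_A h2
      refine ⟨by norm_num, by norm_num, by norm_num; linarith⟩
    · have := sq_B h2
      refine ⟨by norm_num, by norm_num, by norm_num; linarith⟩
    · have := sq_C h2
      refine ⟨by norm_num, by norm_num, by norm_num; linarith⟩
    · have := sq_E h2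
      refine ⟨by norm_num, by norm_num, by norm_num; linarith⟩
  have e1 : ∑ χ ∈ NE, i 360855 χ + ∑ χ ∈ NE, i (-577368) χ + ∑ χ ∈ NE, i (-1360800) χ + ∑ χ ∈ NE, i 277200 χ = 6 := by
    rw [← Finset.sum_add_distrib, ← Finset.sum_add_distrib, ← Finset.sum_add_distrib,
      Finset.sum_congr rfl fun χ h => (h1 χ h).1, Finset.sum_const, hc]
    norm_num
  have e2 : 360855 * ∑ χ ∈ NE, i 360855 χ - 577368 * ∑ χ ∈ NE, i (-577368) χ - 1360800 * ∑ χ ∈ NE, i (-1360800) χ +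
      277200 * ∑ χ ∈ NE, i 277200 χ = s := by
    rw [← h0, Finset.sum_congr rfl fun χ h => (h1 χ h).2.1, Finset.sum_add_distrib, Finset.sum_sub_distrib,
      Finset.sum_sub_distrib, Finset.mul_sum, Finset.mul_sum, Finset.mul_sum, Finset.mul_sum]
  have e3 : 3 * t + (10 * ∑ χ ∈ NE, i 360855 χ + 4 * ∑ χ ∈ NE, i (-577368) χ) ≤ ∑ χ ∈ NE, b χ ^ 2 := by
    rw [← hb, Finset.mul_sum, Finset.mul_sum, Finset.mul_sum, ← Finset.sum_add_distrib, ← Finset.sum_add_distrib]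
    exact Finset.sum_le_sum fun χ h => (h1 χ h).2.2
  obtain ⟨c1, c2⟩ := count (hnn _) (hnn _) (hnn _) (hnn _) e1 hs e2
  rw [c1, c2] at e3
  nlinarith [sq_nonneg (4 * t + 3)]

end Cfsg.Agent.H494.S8.FiNum
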