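import Cfsg.Agent.H494.S8.FiSearch
import Cfsg.Agent.H618.LD.S13

/-!
# S4908, Fi22 (helper494): the principal 13-block of Fi22, kernel check of the search
-/

set_option autoImplicit false
set_option maxRecDepth 100000
set_option maxHeartbeats 4000000

namespace Cfsg.Agent.H494.S8.FiData

open Cfsg.Agent.H618.LD.Num Cfsg.Agent.H618.LD.S13

def LA : List ℕ := [100360855, 99422632, 101441792, 100138600]

def LB : List ℕ := [100000495, 99885952, 101441792, 100035640]

theorem p0 : part (fa 401363879 (FiSearch.gg 11 1123 LA LB KN tab)) 7 (D.drop 0) = true := by decide +kernel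

theorem p1 : part (fa 401363879 (FiSearch.gg 11 1123 LA LB KN tab)) 6 (D.drop 7) = true := by decide +kernel

theorem p2 : part (fa 401363879 (FiSearch.gg 11 1123 LA LB KN tab)) 8 (D.drop 13) = true := by decide +kernel

theorem p3 : part (fa 401363879 (FiSearch.gg 11 1123 LA LB KN tab)) 9 (D.drop 21) = true := by decide +kernel

theorem p4 : part (fa 401363879 (FiSearch.gg 11 1123 LA LB KN tab)) 10 (D.drop 30) = true := by decide +kernel

theorem p5 : part (fa 401363879 (FiSearch.gg 11 1123 LA LB KN tab)) 13 (D.drop 40) = true := by decide +kernel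

theorem p6 : part (fa 401363879 (FiSearch.gg 11 1123 LA LB KN tab)) 18 (D.drop 53) = true := by decide +kernel

theorem p7 : part (fa 401363879 (FiSearch.gg 11 1123 LA LB KN tab)) 69 (D.drop 71) = true := by decide +kernel

theorem main : tri D 401363879 (FiSearch.gg 11 1123 LA LB KN tab) = true := by
  rw [tri_eq]
  exact tails_of_part' (m := 0) p0 (tails_of_part' (m := 7) p1 (tails_of_part' (m := 13) p2 (tails_of_part' (m := 21) p3 (tails_of_part' (m := 30) p4 (tails_of_part' (m := 40) p5 (tails_of_part' (m := 53) p6 (tails_of_part' (m := 71) p7 (tails_nil _ (by decide)))))))))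

end Cfsg.Agent.H494.S8.FiData
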