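import Cfsg.Agent.H618.LD.RowFi22
import Cfsg.Agent.H494.S8.FiData

/-!
# S4908, Fi22 (helper494): the degrees of Fi22 prime to 13

`deg13` : a degree of `Fi22` prime to `13` is one of `1, 3080, 360855, 577368, 1360800, 1441792, 138600` (the principal
13-block: the moments of helper618 leave two possibilities, the column of an element of order `7` excludes one).
-/

set_option autoImplicit false
set_option linter.unusedSectionVars false

open Cfsg

namespace Cfsg.Agent.H494.S8.FiBlk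

open Cfsg.Agent.H618.LD Cfsg.Agent.LThreeFi22 Cfsg.Agent.H618.LD.Tw Cfsg.Agent.H618.LD.Ev Cfsg.Agent.H618.LD.Blk Cfsg.Agent.H618.LD.Num
  Cfsg.Agent.H618.LD.Mom Cfsg.Agent.H618.LD.Prin Cfsg.Agent.H618.LD.Find
open Cfsg.Agent.H494.S8.FiData (LA LB)
open Cfsg.Agent.KFacts.FiTT (TK)

universe u

variable {G : Type u} [Group G] [Finite G] {T : Set G}

/-- the members of the principal 13-block -/
structure Mem (NE X : Finset (IrrCharacter G)) (ε : IrrCharacter G → ℤ) (d : ℤ) (κ κ' Θ : IrrCharacter G)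
    (F : Finset (IrrCharacter G)) : Prop where
  oneNE : Blk.one G ∈ NE
  hκNE : κ ∈ NE
  hκNE' : κ' ∈ NE
  ΘX : Θ ∈ X
  memF : ∀ χ, χ ∈ F ↔ χ ≠ κ' ∧ χ ≠ κ ∧ χ ≠ Blk.one G ∧ χ ∈ NE
  hFc : F.card = 3
  split : ∀ {A : Type} [AddCommMonoid A] (g : IrrCharacter G → A), ∑ χ ∈ NE, g χ = g (Blk.one G) + (g κ + (g κ' + ∑ χ ∈ F, g χ))
  cF : ∀ χ ∈ F, (13 : ℤ) ∣ co X ε d χ - 1
  cΘ : (13 : ℤ) ∣ co X ε d Θ + 6
  m0 : co X ε d (Blk.one G) + (co X ε d κ + (co X ε d κ' + ∑ χ ∈ F, co X ε d χ)) + co X ε d Θ = 0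
  c1 : co X ε d (Blk.one G) = 1
  cκ : co X ε d κ = -3080
  cκ' : co X ε d κ' = -1360800
  lt : ∀ χ, χ ∈ F ∨ χ = Θ → (co X ε d χ).natAbs < 100000000
  res : (∀ χ, χ ∈ F ∨ χ = Θ → cd (co X ε d χ) ∈ LA) ∨ (∀ χ, χ ∈ F ∨ χ = Θ → cd (co X ε d χ) ∈ LB)

variable [IsSimpleGroup G]

theorem exists_mem (hna : ¬ IsMulCommutative G) (e : G ≃* Spor.Fi22) [Fact (Nat.Prime 11)] {P' : Sylow 11 G}
    {K' : Subgroup G} {NE' X' : Finset (IrrCharacter G)} {ε' : IrrCharacter G → ℤ} {d' : ℤ} {k : G}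
    (D' : D11 (TK e) P' K' NE' X' ε' d' k) [Fact (Nat.Prime 13)] {P : Sylow 13 G}
    {K : Subgroup G} {NE X : Finset (IrrCharacter G)} {ε : IrrCharacter G → ℤ} {d : ℤ}
    (D : D13 P K NE X ε d) {κ : IrrCharacter G} (hκ : charDegree (κ : G → ℂ) = 3080)
    (hw : ww (TK e) (κ : G → ℂ) = 702) {κ' : IrrCharacter G} (hκ' : charDegree (κ' : G → ℂ) = 1360800)
    (hw' : ww (TK e) (κ' : G → ℂ) = 78) {Θ : IrrCharacter G} (hΘ : Θ ∈ X) :
    ∃ F, Mem NE X ε d κ κ' Θ F := by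
  classical
  have C := Inst.ctx e
  have B := D.B
  have key : ∀ {χ : IrrCharacter G} {n : ℕ}, charDegree (χ : G → ℂ) = n → ¬ (13 : ℤ) ∣ n → ¬ (13 : ℤ) ∣ n - 6 →
      ¬ (13 : ℤ) ∣ n + 6 → χ ∈ NE := by
    intro χ n hn h1 h2 h3
    have hd := dg_eq hn
    rcases D.mem (χ := χ) (by rw [hd]; exact h1) with h | h
    · exact h
    · exfalso
      have h4 := B.congX χ h
      rw [hd] at h4
      rcases B.sd with h5 | h5 <;> rw [h5] at h4
      · push_cast at h4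
        rw [one_mul] at h4
        exact h2 h4
      · push_cast at h4
        have h6 : -1 * (n : ℤ) - 6 = -(n + 6) := by ring
        rw [h6, dvd_neg] at h4
        exact h3 h4
  have hdκ := dg_eq hκ
  have hdκ' := dg_eq hκ'
  push_cast at hdκ hdκ'
  have hκNE : κ ∈ NE := key hκ (by norm_num) (by norm_num) (by norm_num)
  have hκNE' : κ' ∈ NE := key hκ' (by norm_num) (by norm_num) (by norm_num)
  have hεκ : ε κ = -1 := by
    have h1 := B.cong κ hκNE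
    rw [hdκ] at h1
    rcases B.sg κ hκNE with h2 | h2
    · exfalso; rw [h2] at h1; revert h1; norm_num
    · exact h2
  have hεκ' : ε κ' = -1 := by
    have h1 := B.cong κ' hκNE'
    rw [hdκ'] at h1
    rcases B.sg κ' hκNE' with h2 | h2
    · exfalso; rw [h2] at h1; revert h1; norm_num
    · exact h2
  have hκ1 : κ ≠ Blk.one G := ne_of_deg hκ deg_one (by norm_num)
  have hκ1' : κ' ≠ Blk.one G := ne_of_deg hκ' deg_one (by norm_num)
  have hκκ' : κ' ≠ κ := ne_of_deg hκ' hκ (by norm_num)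
  have hΘ1 : Θ ≠ Blk.one G := by
    rintro rfl
    exact Finset.disjoint_left.1 B.disj B.one hΘ
  obtain ⟨m0, m1, m2⟩ := mom C (by norm_num) B hΘ
  set F := ((NE.erase (Blk.one G)).erase κ).erase κ' with hF
  have mF : ∀ {χ}, χ ∈ F ↔ χ ≠ κ' ∧ χ ≠ κ ∧ χ ≠ Blk.one G ∧ χ ∈ NE := by
    intro χ; rw [hF, Finset.mem_erase, Finset.mem_erase, Finset.mem_erase]
  have hsplit' : ∀ {A : Type} [AddCommMonoid A] (g : IrrCharacter G → A),
      ∑ χ ∈ NE, g χ = g (Blk.one G) + (g κ + (g κ' + ∑ χ ∈ F, g χ)) := by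
    intro A _ g
    rw [← Finset.add_sum_erase NE g B.one, ← Finset.add_sum_erase (NE.erase (Blk.one G)) g
      (Finset.mem_erase.2 ⟨hκ1, hκNE⟩), ← Finset.add_sum_erase ((NE.erase (Blk.one G)).erase κ) g
      (Finset.mem_erase.2 ⟨hκκ', Finset.mem_erase.2 ⟨hκ1', hκNE'⟩⟩)]
  have hsplit : ∀ g : IrrCharacter G → ℤ, ∑ χ ∈ NE, g χ = g (Blk.one G) + g κ + g κ' + ∑ χ ∈ F, g χ := by
    intro g
    rw [hsplit' g]
    ring
  have hFc : F.card = 3 := by
    rw [hF, Finset.card_erase_of_mem (Finset.mem_erase.2 ⟨hκκ', Finset.mem_erase.2 ⟨hκ1', hκNE'⟩⟩),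
      Finset.card_erase_of_mem (Finset.mem_erase.2 ⟨hκ1, hκNE⟩), Finset.card_erase_of_mem B.one, B.cNE]
  have m00 := m0
  rw [hsplit] at m0 m1 m2
  have c1 : co X ε d (Blk.one G) = 1 := by rw [co_NE B B.one, B.eone, dg_one]; norm_num
  have cκ : co X ε d κ = -3080 := by rw [co_NE B hκNE, hεκ, hdκ]; norm_num
  have cκ' : co X ε d κ' = -1360800 := by rw [co_NE B hκNE', hεκ', hdκ']; norm_num
  rw [c1, cκ, cκ'] at m0 m1 m2
  rw [ww_one C, hw, hw'] at m1 m2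
  have hmem : ∀ χ, χ ∈ F ∨ χ = Θ → (χ ∈ NE ∨ χ ∈ X) ∧ χ ≠ Blk.one G := by
    intro χ h
    rcases h with h | rfl
    · exact ⟨Or.inl (mF.1 h).2.2.2, (mF.1 h).2.2.1⟩
    · exact ⟨Or.inr hΘ, hΘ1⟩
  have hadm : ∀ χ, χ ∈ F ∨ χ = Θ → Adm (co X ε d χ).natAbs (ww (TK e) (χ : G → ℂ)) := by
    intro χ h
    obtain ⟨h1, h2⟩ := hmem χ h
    rw [natAbs_co B h1]
    exact adm C χ (ne_one_deg hna h2)
  have hlt : ∀ χ, χ ∈ F ∨ χ = Θ → (co X ε d χ).natAbs < 100000000 := fun χ h => Use.adm_lt (hadm χ h)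
  have hcF : ∀ χ ∈ F, (13 : ℤ) ∣ co X ε d χ - 1 := fun χ h => by
    have h1 := (mF.1 h).2.2.2
    rw [co_NE B h1]
    exact B.cong χ h1
  have hU := FiSearch.use (p := 13) (q := 11) (m := 1123) (by norm_num) (S := -1363879) (rs := Cfsg.Agent.H618.LD.S13.rs)
    Cfsg.Agent.H618.LD.S13.hD Cfsg.Agent.H618.LD.S13.hDD Cfsg.Agent.H618.LD.S13.ht FiData.main
    (by norm_num) hFc (c := co X ε d) (w := fun χ => ww (TK e) (χ : G → ℂ)) (Θ := Θ) hadm
    (fun χ h => rs13_of (hadm χ h).bd (by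
      rw [natAbs_co B (hmem χ h).1]
      rcases D'.tri C χ with h1 | h1 | h1
      · exact Or.inl h1
      · exact Or.inr (Or.inl h1)
      · exact Or.inr (Or.inr (D'.w1 C h1))))
    (fun χ h => by rw [natAbs_co B (hmem χ h).1]; exact res11 hna e χ)
    hcF (kn := ⟨1477104483660, 14820, 7971935616337680, 79895088⟩) List.mem_cons_self
    (by linear_combination m0)
    (by push_cast; linear_combination m1) (by push_cast; linear_combination m2)
  refine ⟨F, B.one, hκNE, hκNE', hΘ, fun _ => mF, hFc, hsplit', hcF, ?_, ?_, c1, cκ, cκ', hlt, hU⟩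
  · rw [co_X hΘ]
    have h1 := B.congX Θ hΘ
    have h2 : -d * dg Θ + 6 = -(d * dg Θ - (6 : ℕ)) := by push_cast; ring
    rw [h2]
    exact (dvd_neg).2 h1
  · rw [c1, cκ, cκ']
    linear_combination m0

theorem co_LA {c : ℤ} (hlt : c.natAbs < 100000000) (h : cd c ∈ LA) :
    c = 360855 ∨ c = -577368 ∨ c = 1441792 ∨ c = 138600 := by
  have h1 := cd_cast hlt
  unfold LA at h
  simp only [List.mem_cons, List.not_mem_nil, or_false] at h
  omega

theorem co_LB {c : ℤ} (hlt : c.natAbs < 100000000) (h : cd c ∈ LB) :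
    c = 495 ∨ c = -114048 ∨ c = 1441792 ∨ c = 35640 := by
  have h1 := cd_cast hlt
  unfold LB at h
  simp only [List.mem_cons, List.not_mem_nil, or_false] at h
  omega

theorem bd6 {x m : ℤ} (h : x ^ 2 + m ≤ 42) (hm : 0 ≤ m) : -6 ≤ x ∧ x ≤ 6 := by
  constructor <;> nlinarith

theorem arB {x y z t : ℤ} (hx : (7 : ℤ) ∣ x - 495) (hy : (7 : ℤ) ∣ y - -114048) (hz : (7 : ℤ) ∣ z - 1441792)
    (ht : (7 : ℤ) ∣ t - 35640) (h : 1 + x + y + z + t = 0) (hq : 1 + x ^ 2 + y ^ 2 + z ^ 2 + 2 * t ^ 2 ≤ 42) : False := by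
  have bx := bd6 (x := x) (m := 1 + y ^ 2 + z ^ 2 + 2 * t ^ 2) (by linarith) (by positivity)
  have bY := bd6 (x := y) (m := 1 + x ^ 2 + z ^ 2 + 2 * t ^ 2) (by linarith) (by positivity)
  have bz := bd6 (x := z) (m := 1 + x ^ 2 + y ^ 2 + 2 * t ^ 2) (by linarith) (by positivity)
  have bt := bd6 (x := t) (m := 1 + x ^ 2 + y ^ 2 + z ^ 2 + t ^ 2) (by linarith) (by positivity)
  have ex : x = -2 ∨ x = 5 := by omega
  have ey : y = 3 ∨ y = -4 := by omega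
  have ez : z = 2 ∨ z = -5 := by omega
  have et : t = 3 ∨ t = -4 := by omega
  rcases ex with rfl | rfl <;> rcases ey with rfl | rfl <;> rcases ez with rfl | rfl <;> rcases et with rfl | rfl <;>
    first
      | (exfalso; revert h; norm_num; done)
      | (exfalso; revert hq; norm_num; done)

omit [IsSimpleGroup G] in
/-- the second possibility is excluded by the column of an element of order `7` -/
theorem no_B {P : Sylow 13 G} [Fact (Nat.Prime 13)] {K : Subgroup G} {NE X : Finset (IrrCharacter G)}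
    {ε : IrrCharacter G → ℤ} {d : ℤ} (B : PB P K 6 2 NE X ε d) {κ κ' Θ : IrrCharacter G} {F : Finset (IrrCharacter G)}
    (M : Mem NE X ε d κ κ' Θ F) (hLB : ∀ χ, χ ∈ F ∨ χ = Θ → cd (co X ε d χ) ∈ LB) {g : G} (hog : orderOf g = 7)
    (ha : ∀ χ : IrrCharacter G, ∃ a : ℤ, (χ : G → ℂ) g = a ∧ (7 : ℤ) ∣ a - charDegree (χ : G → ℂ))
    (hs : ∀ S : Finset (IrrCharacter G), ∑ χ ∈ S, Complex.normSq ((χ : G → ℂ) g) ≤ 42) : False := by
  classical
  choose a ha1 ha2 using ha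
  set b : IrrCharacter G → ℤ := fun χ => if χ ∈ X then -d * a χ else ε χ * a χ with hb
  have hbX : ∀ χ ∈ X, b χ = -d * a χ := fun χ h => if_pos h
  have hbN : ∀ χ ∈ NE, b χ = ε χ * a χ := fun χ h => if_neg fun h' => Finset.disjoint_left.1 B.disj h h'
  have ha2' : ∀ χ : IrrCharacter G, (7 : ℤ) ∣ a χ - dg χ := ha2
  have h7 : ∀ χ, χ ∈ NE ∨ χ ∈ X → (7 : ℤ) ∣ b χ - co X ε d χ := by
    rintro χ (h | h)
    · rw [hbN χ h, co_NE B h, ← mul_sub]
      exact (ha2' χ).mul_left _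
    · rw [hbX χ h, co_X h, ← mul_sub]
      exact (ha2' χ).mul_left _
  have hsq : ∀ χ, χ ∈ NE ∨ χ ∈ X → b χ ^ 2 = a χ ^ 2 := by
    rintro χ (h | h)
    · rw [hbN χ h]
      rcases B.sg χ h with h1 | h1 <;> rw [h1] <;> ring
    · rw [hbX χ h]
      rcases B.sd with h1 | h1 <;> rw [h1] <;> ring
  have hrel : ∀ Θ ∈ X, ∑ χ ∈ NE, b χ + b Θ = 0 := by
    intro Θ hΘ
    have h1 := B.rel Θ hΘ g (by rw [hog]; norm_num)
    rw [ha1 Θ, Finset.sum_congr rfl (g := fun χ => ((b χ : ℤ) : ℂ)) (fun χ h => by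
      rw [ha1 χ, hbN χ h]; push_cast; rfl), ← Int.cast_sum] at h1
    have h2 : ∑ χ ∈ NE, b χ = d * a Θ := by exact_mod_cast h1
    rw [h2, hbX Θ hΘ]; ring
  have hsum : ∑ χ ∈ NE, b χ ^ 2 + ∑ χ ∈ X, b χ ^ 2 ≤ 42 := by
    have h1 := hs (NE ∪ X)
    rw [Finset.sum_union B.disj] at h1
    have h2 : ∀ χ, χ ∈ NE ∨ χ ∈ X → Complex.normSq ((χ : G → ℂ) g) = ((b χ ^ 2 : ℤ) : ℝ) := by
      intro χ h
      rw [ha1 χ, hsq χ h, ← Complex.ofReal_intCast, Complex.normSq_ofReal]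
      push_cast; ring
    rw [Finset.sum_congr rfl fun χ h => h2 χ (Or.inl h), Finset.sum_congr rfl fun χ h => h2 χ (Or.inr h)] at h1
    exact_mod_cast h1
  have hX2 : ∑ χ ∈ X, b χ ^ 2 = 2 * b Θ ^ 2 := by
    have h1 : ∀ χ ∈ X, b χ ^ 2 = b Θ ^ 2 := by
      intro χ h
      have h2 := hrel χ h
      have h3 := hrel Θ M.ΘX
      have h4 : b χ = b Θ := by linarith
      rw [h4]
    rw [Finset.sum_congr rfl h1, Finset.sum_const, B.cX]
    simp
  rw [hX2, M.split fun χ => b χ ^ 2] at hsum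
  have hr := hrel Θ M.ΘX
  rw [M.split b] at hr
  have hb1 : b (Blk.one G) = 1 := by
    rw [hbN _ M.oneNE, B.eone, one_mul]
    have h1 : (Blk.one G : G → ℂ) g = 1 := rfl
    rw [ha1] at h1
    exact_mod_cast h1
  have k1 := h7 κ (Or.inl M.hκNE)
  have k2 := h7 κ' (Or.inl M.hκNE')
  rw [M.cκ] at k1
  rw [M.cκ'] at k2
  obtain ⟨x, y, z, hxy, hxz, hyz, hF⟩ := Finset.card_eq_three.1 M.hFc
  have hsx : ∀ f : IrrCharacter G → ℤ, ∑ χ ∈ F, f χ = f x + (f y + f z) := by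
    intro f
    rw [hF, Finset.sum_insert (by simp [hxy, hxz]), Finset.sum_pair hyz]
  rw [hsx] at hsum hr
  have m0 := M.m0
  rw [hsx, M.c1, M.cκ, M.cκ'] at m0
  have mx : x ∈ F := by rw [hF]; simp
  have my : y ∈ F := by rw [hF]; simp
  have mz : z ∈ F := by rw [hF]; simp
  have mN : ∀ χ ∈ F, χ ∈ NE := by
    intro χ h
    exact ((M.memF χ).1 h).2.2.2
  have lx := co_LB (M.lt x (Or.inl mx)) (hLB x (Or.inl mx))
  have ly := co_LB (M.lt y (Or.inl my)) (hLB y (Or.inl my))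
  have lz := co_LB (M.lt z (Or.inl mz)) (hLB z (Or.inl mz))
  have lΘ := co_LB (M.lt Θ (Or.inr rfl)) (hLB Θ (Or.inr rfl))
  have px := M.cF x mx
  have py := M.cF y my
  have pz := M.cF z mz
  have pΘ := M.cΘ
  have qx := h7 x (Or.inl (mN x mx))
  have qy := h7 y (Or.inl (mN y my))
  have qz := h7 z (Or.inl (mN z mz))
  have qΘ := h7 Θ (Or.inr M.ΘX)
  rw [hb1] at hsum hr
  generalize co X ε d x = cx at *
  generalize co X ε d y = cy at *
  generalize co X ε d z = cz at *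
  generalize co X ε d Θ = cΘ at *
  generalize b x = bx at *
  generalize b y = bY at *
  generalize b z = bz at *
  generalize b Θ = bΘ at *
  generalize b κ = bκ at *
  generalize b κ' = bκ' at *
  have e1 : bκ = 0 := by
    have h1 := bd6 (x := bκ) (m := 1 + bκ' ^ 2 + bx ^ 2 + bY ^ 2 + bz ^ 2 + 2 * bΘ ^ 2) (by linarith) (by positivity)
    omega
  have e2 : bκ' = 0 := by
    have h1 := bd6 (x := bκ') (m := 1 + bκ ^ 2 + bx ^ 2 + bY ^ 2 + bz ^ 2 + 2 * bΘ ^ 2) (by linarith) (by positivity)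
    omega
  subst e1 e2
  have eΘ : cΘ = 35640 := by omega
  subst eΘ
  have ex : cx = 495 ∨ cx = -114048 ∨ cx = 1441792 := by omega
  have ey : cy = 495 ∨ cy = -114048 ∨ cy = 1441792 := by omega
  have ez : cz = 495 ∨ cz = -114048 ∨ cz = 1441792 := by omega
  rcases ex with rfl | rfl | rfl <;> rcases ey with rfl | rfl | rfl <;> rcases ez with rfl | rfl | rfl <;>
    first
      | (exfalso; revert m0; norm_num; done)
      | exact arB qx qy qz qΘ (by linarith) (by linarith)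
      | exact arB qx qz qy qΘ (by linarith) (by linarith)
      | exact arB qy qx qz qΘ (by linarith) (by linarith)
      | exact arB qy qz qx qΘ (by linarith) (by linarith)
      | exact arB qz qx qy qΘ (by linarith) (by linarith)
      | exact arB qz qy qx qΘ (by linarith) (by linarith)

/-- **The degrees of `Fi22` prime to `13`.** -/
theorem deg13 (hna : ¬ IsMulCommutative G) (e : G ≃* Spor.Fi22) {g : G} (hog : orderOf g = 7)
    (ha : ∀ χ : IrrCharacter G, ∃ a : ℤ, (χ : G → ℂ) g = a ∧ (7 : ℤ) ∣ a - charDegree (χ : G → ℂ))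
    (hs : ∀ S : Finset (IrrCharacter G), ∑ χ ∈ S, Complex.normSq ((χ : G → ℂ) g) ≤ 42)
    (χ : IrrCharacter G) (hχ : ¬ 13 ∣ charDegree (χ : G → ℂ)) :
    charDegree (χ : G → ℂ) = 1 ∨ charDegree (χ : G → ℂ) = 3080 ∨ charDegree (χ : G → ℂ) = 360855 ∨
      charDegree (χ : G → ℂ) = 577368 ∨ charDegree (χ : G → ℂ) = 1360800 ∨ charDegree (χ : G → ℂ) = 1441792 ∨
      charDegree (χ : G → ℂ) = 138600 := by
  have i11 : Fact (Nat.Prime 11) := ⟨by norm_num⟩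
  have i13 : Fact (Nat.Prime 13) := ⟨by norm_num⟩
  obtain ⟨⟨χ₁, d1, w1⟩, ⟨χ₂, d2, w2⟩⟩ := exists_pair e
  obtain ⟨P, K, NE, X, ε, d, k, D⟩ := exists_D11 e
  obtain ⟨P', K', NE', X', ε', d', D'⟩ := exists_D13 e
  obtain ⟨-, κ', hκ', hκw⟩ := find11 hna e D d2 w2
  have key : ∀ Θ ∈ X', ∃ F, Mem NE' X' ε' d' χ₁ κ' Θ F ∧ ∀ χ, χ ∈ F ∨ χ = Θ → cd (co X' ε' d' χ) ∈ LA := by
    intro Θ hΘ
    obtain ⟨F, M⟩ := exists_mem hna e D D' d1 w1 hκ' hκw hΘ
    refine ⟨F, M, ?_⟩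
    rcases M.res with h | h
    · exact h
    · exact (no_B D'.B M h hog ha hs).elim
  have fin : ∀ χ, (χ ∈ NE' ∨ χ ∈ X') → (co X' ε' d' χ).natAbs < 100000000 → cd (co X' ε' d' χ) ∈ LA →
      charDegree (χ : G → ℂ) = 360855 ∨ charDegree (χ : G → ℂ) = 577368 ∨ charDegree (χ : G → ℂ) = 1441792 ∨
      charDegree (χ : G → ℂ) = 138600 := by
    intro χ hm hlt h
    have h1 := co_LA hlt h
    have h2 := natAbs_co D'.B hm
    omega
  have hmem := D'.mem (χ := χ) (fun h => hχ (by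
    unfold dg at h
    exact_mod_cast h))
  rcases hmem with h | h
  · obtain ⟨Θ, hΘ⟩ : X'.Nonempty := by rw [← Finset.card_pos, D'.B.cX]; norm_num
    obtain ⟨F, M, hL⟩ := key Θ hΘ
    by_cases h1 : χ = Blk.one G
    · left; rw [h1]; exact deg_one
    by_cases h2 : χ = χ₁
    · right; left; rw [h2]; exact d1
    by_cases h3 : χ = κ'
    · rw [h3, hκ']; tauto
    have h4 : χ ∈ F := (M.memF χ).2 ⟨h3, h2, h1, h⟩
    have h5 := fin χ (Or.inl h) (M.lt χ (Or.inl h4)) (hL χ (Or.inl h4))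
    tauto
  · obtain ⟨F, M, hL⟩ := key χ h
    have h5 := fin χ (Or.inr h) (M.lt χ (Or.inr rfl)) (hL χ (Or.inr rfl))
    tauto

end Cfsg.Agent.H494.S8.FiBlk
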