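import Cfsg.Agent.H618.LD.Use
import Cfsg.Agent.H618.LD.Part

/-!
# S4908, Fi22 (helper494): the search of helper618 with the whole result

The same search as in `H618/LD/Num.lean`, with the result: all four signed degrees lie in `LA`, or all in `LB`.
-/

set_option autoImplicit false

namespace Cfsg.Agent.H494.S8.FiSearch

open Cfsg.Agent.H618.LD.Num Cfsg.Agent.H618.LD.Use

def al (L : List ℕ) (x y z u : ℕ) : Bool := cond (memN x L) (cond (memN y L) (cond (memN z L) (memN u L) false) false) false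

def t4 (LA LB : List ℕ) (x y z u : ℕ) : Bool := cond (al LA x y z u) true (al LB x y z u)

def All (L : List ℕ) (x y z u : ℕ) : Prop := x ∈ L ∧ y ∈ L ∧ z ∈ L ∧ u ∈ L

theorem al_spec {L : List ℕ} {x y z u : ℕ} (h : al L x y z u = true) : All L x y z u := by
  unfold al at h
  rw [cond_tf, cond_tf, cond_tf] at h
  exact ⟨memN_spec h.1, memN_spec h.2.1, memN_spec h.2.2.1, memN_spec h.2.2.2⟩

theorem t4_spec {LA LB : List ℕ} {x y z u : ℕ} (h : t4 LA LB x y z u = true) : All LA x y z u ∨ All LB x y z u := by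
  unfold t4 at h
  rcases cond_or' h with h | h
  · exact Or.inl (al_spec h)
  · exact Or.inr (al_spec h)
where
  cond_or' {b y : Bool} (h : cond b true y = true) : b = true ∨ y = true := by cases b <;> simp at h <;> tauto

def slv (LA LB : List ℕ) (kn : KD) (x : ℕ) (lx : List ℕ) (y : ℕ) (ly : List ℕ) (z : ℕ) (lz : List ℕ) (u : ℕ) : Bool :=
  frc (ab u) fun au =>
  allL (fun wx => frc (Nat.add kn.C (Nat.mul x wx)) fun P1 => frc (Nat.add kn.W wx) fun Q1 =>
    allL (fun wy => frc (Nat.add P1 (Nat.mul y wy)) fun P2 => frc (Nat.add Q1 wy) fun Q2 =>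
      allL (fun wz => frc (Nat.add P2 (Nat.mul z wz)) fun P => frc (Nat.mul 100000000 (Nat.add Q2 wz)) fun Q =>
        frc (Nat.add (Nat.sub P Q) (Nat.sub Q P)) fun n =>
        cond (Nat.beq (Nat.mod n au) 0) (frc (Nat.div n au) fun wu =>
          cond (Nat.beq (Nat.add P (Nat.mul u wu)) (Nat.add Q (Nat.mul 100000000 wu)))
            (cond (Nat.beq (Nat.add kn.C2 (Nat.add (Nat.mul x (Nat.mul wx wx)) (Nat.add (Nat.mul y (Nat.mul wy wy))
                (Nat.add (Nat.mul z (Nat.mul wz wz)) (Nat.mul u (Nat.mul wu wu))))))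
                (Nat.mul 100000000 (Nat.add kn.W2 (Nat.add (Nat.mul wx wx) (Nat.add (Nat.mul wy wy)
                (Nat.add (Nat.mul wz wz) (Nat.mul wu wu)))))))
              (t4 LA LB x y z u) true) true) true) lz) ly) lx

theorem slv_spec {LA LB : List ℕ} {kn : KD} {x : ℕ} {lx : List ℕ} {y : ℕ} {ly : List ℕ} {z : ℕ} {lz : List ℕ} {u : ℕ}
    (h : slv LA LB kn x lx y ly z lz u = true) {wx wy wz wu : ℕ} (hx : wx ∈ lx) (hy : wy ∈ ly) (hz : wz ∈ lz)
    (hu : u ≠ 100000000)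
    (e1 : kn.C + (x * wx + (y * wy + (z * wz + u * wu))) = 100000000 * (kn.W + (wx + (wy + (wz + wu)))))
    (e2 : kn.C2 + (x * (wx * wx) + (y * (wy * wy) + (z * (wz * wz) + u * (wu * wu)))) =
      100000000 * (kn.W2 + (wx * wx + (wy * wy + (wz * wz + wu * wu))))) : All LA x y z u ∨ All LB x y z u := by
  unfold slv at h
  simp only [Nat.add_eq, Nat.mul_eq, Nat.sub_eq, frc_eq] at h
  have h1 := allL_iff.1 (allL_iff.1 (allL_iff.1 h wx hx) wy hy) wz hz
  simp only [cond_ft] at h1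
  have hab : ab u = (u - 100000000) + (100000000 - u) := rfl
  have hpos : 0 < ab u := by rw [hab]; omega
  have key : kn.C + x * wx + y * wy + z * wz - 100000000 * (kn.W + wx + wy + wz) +
      (100000000 * (kn.W + wx + wy + wz) - (kn.C + x * wx + y * wy + z * wz)) = ab u * wu := by
    generalize hP : kn.C + x * wx + y * wy + z * wz = P
    generalize hQ : 100000000 * (kn.W + wx + wy + wz) = Q
    have e3 : P + u * wu = Q + 100000000 * wu := by
      rw [← hP, ← hQ]
      calc kn.C + x * wx + y * wy + z * wz + u * wu = kn.C + (x * wx + (y * wy + (z * wz + u * wu))) := by ring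
        _ = _ := e1
        _ = _ := by ring
    rcases le_total u 100000000 with h3 | h3
    · obtain ⟨k, hk⟩ := Nat.exists_eq_add_of_le h3
      have h4 : ab u = k := by rw [hab]; omega
      have h5 : 100000000 * wu = u * wu + k * wu := by rw [← add_mul, ← hk]
      rw [h4]
      omega
    · obtain ⟨k, hk⟩ := Nat.exists_eq_add_of_le h3
      have h4 : ab u = k := by rw [hab]; omega
      have h5 : u * wu = 100000000 * wu + k * wu := by rw [← add_mul, ← hk]
      rw [h4]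
      omega
  rw [key] at h1
  have h2 := h1 (beq_of_eq (by show ab u * wu % ab u = 0; exact Nat.mul_mod_right _ _))
  have h3 : Nat.div (ab u * wu) (ab u) = wu := by
    show ab u * wu / ab u = wu
    exact Nat.mul_div_cancel_left _ hpos
  rw [h3] at h2
  refine t4_spec (h2 (beq_of_eq ?_) (beq_of_eq e2))
  calc kn.C + x * wx + y * wy + z * wz + u * wu = kn.C + (x * wx + (y * wy + (z * wz + u * wu))) := by ring
    _ = _ := e1
    _ = _ := by ring

def sel (LA LB : List ℕ) (kn : KD) (a : ℕ) (la : List ℕ) (b : ℕ) (lb : List ℕ) (c : ℕ) (lc : List ℕ) (r : ℕ)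
    (lr : List ℕ) : Bool :=
  frc (len la) fun na => frc (len lb) fun nb => frc (len lc) fun nc => frc (len lr) fun nr =>
    cond (cond (Nat.ble na nr) (cond (Nat.ble nb nr) (Nat.ble nc nr) false) false) (slv LA LB kn a la b lb c lc r)
      (cond (cond (Nat.ble na nc) (Nat.ble nb nc) false) (slv LA LB kn a la b lb r lr c)
        (cond (Nat.ble na nb) (slv LA LB kn a la c lc r lr b) (slv LA LB kn b lb c lc r lr a)))

theorem sel_spec {LA LB : List ℕ} {kn : KD} {a : ℕ} {la : List ℕ} {b : ℕ} {lb : List ℕ} {c : ℕ} {lc : List ℕ} {r : ℕ}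
    {lr : List ℕ} (h : sel LA LB kn a la b lb c lc r lr = true) {wa wb wc wr : ℕ} (ha : wa ∈ la) (hb : wb ∈ lb)
    (hc : wc ∈ lc) (hr : wr ∈ lr) (na : a ≠ 100000000) (nb : b ≠ 100000000) (nc : c ≠ 100000000) (nr : r ≠ 100000000)
    (e1 : kn.C + (a * wa + (b * wb + (c * wc + r * wr))) = 100000000 * (kn.W + (wa + (wb + (wc + wr)))))
    (e2 : kn.C2 + (a * (wa * wa) + (b * (wb * wb) + (c * (wc * wc) + r * (wr * wr)))) =
      100000000 * (kn.W2 + (wa * wa + (wb * wb + (wc * wc + wr * wr))))) : All LA a b c r ∨ All LB a b c r := by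
  have p1 : kn.C + (a * wa + (b * wb + (r * wr + c * wc))) = 100000000 * (kn.W + (wa + (wb + (wr + wc)))) := by omega
  have p2 : kn.C + (a * wa + (c * wc + (r * wr + b * wb))) = 100000000 * (kn.W + (wa + (wc + (wr + wb)))) := by omega
  have p3 : kn.C + (b * wb + (c * wc + (r * wr + a * wa))) = 100000000 * (kn.W + (wb + (wc + (wr + wa)))) := by omega
  have q1 : kn.C2 + (a * (wa * wa) + (b * (wb * wb) + (r * (wr * wr) + c * (wc * wc)))) =
      100000000 * (kn.W2 + (wa * wa + (wb * wb + (wr * wr + wc * wc)))) := by omega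
  have q2 : kn.C2 + (a * (wa * wa) + (c * (wc * wc) + (r * (wr * wr) + b * (wb * wb)))) =
      100000000 * (kn.W2 + (wa * wa + (wc * wc + (wr * wr + wb * wb)))) := by omega
  have q3 : kn.C2 + (b * (wb * wb) + (c * (wc * wc) + (r * (wr * wr) + a * (wa * wa)))) =
      100000000 * (kn.W2 + (wb * wb + (wc * wc + (wr * wr + wa * wa)))) := by omega
  unfold sel at h
  simp only [frc_eq] at h
  rcases cond_or h with h | h
  · exact slv_spec h ha hb hc nr e1 e2
  rcases cond_or h with h | h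
  · have h3 := slv_spec h ha hb hr nc p1 q1
    unfold All at h3 ⊢
    tauto
  rcases cond_or h with h | h
  · have h3 := slv_spec h ha hc hr nb p2 q2
    unfold All at h3 ⊢
    tauto
  · have h3 := slv_spec h hb hc hr na p3 q3
    unfold All at h3 ⊢
    tauto

def inner (LA LB : List ℕ) (KN : List KD) (t : List (ℕ × List ℕ)) (a b c r : ℕ) : Bool :=
  withL t a fun la => withL t b fun lb => withL t c fun lc => withL t r fun lr =>
    allL (fun kn => sel LA LB kn a la b lb c lc r lr) KN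

def gg (q m : ℕ) (LA LB : List ℕ) (KN : List KD) (t : List (ℕ × List ℕ)) (a b c r : ℕ) : Bool :=
  cond (okr q m r) (inner LA LB KN t a b c r) true

theorem inner_spec {LA LB : List ℕ} {KN : List KD} {t : List (ℕ × List ℕ)} {rs : ℕ → ℕ → Bool}
    (ht : ∀ x ∈ t, chkRow rs x.1 x.2 = true) {a b c r : ℤ} (na : a.natAbs < 100000000) (nb : b.natAbs < 100000000)
    (nc : c.natAbs < 100000000) (nr : r.natAbs < 100000000)
    (h : inner LA LB KN t (cd a) (cd b) (cd c) (cd r) = true) {wa wb wc wr : ℤ}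
    (ha : Adm a.natAbs wa) (hb : Adm b.natAbs wb) (hc : Adm c.natAbs wc) (hr : Adm r.natAbs wr)
    (ra : rs a.natAbs (wa + 3510).toNat = true) (rb : rs b.natAbs (wb + 3510).toNat = true)
    (rc : rs c.natAbs (wc + 3510).toNat = true) (rr : rs r.natAbs (wr + 3510).toNat = true) {kn : KD} (hkn : kn ∈ KN)
    (e1 : (kn.C : ℤ) - 100000000 * kn.W + a * (wa + 3510) + b * (wb + 3510) + c * (wc + 3510) + r * (wr + 3510) = 0)
    (e2 : (kn.C2 : ℤ) - 100000000 * kn.W2 + a * (wa + 3510) ^ 2 + b * (wb + 3510) ^ 2 + c * (wc + 3510) ^ 2 +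
      r * (wr + 3510) ^ 2 = 0) :
    All LA (cd a) (cd b) (cd c) (cd r) ∨ All LB (cd a) (cd b) (cd c) (cd r) := by
  unfold inner at h
  obtain ⟨la, h1, h⟩ := withL_spec h
  obtain ⟨lb, h2, h⟩ := withL_spec h
  obtain ⟨lc, h3, h⟩ := withL_spec h
  obtain ⟨lr, h4, h⟩ := withL_spec h
  have h5 := allL_iff.1 h kn hkn
  have k1 := ht _ h1
  have k2 := ht _ h2
  have k3 := ht _ h3
  have k4 := ht _ h4
  simp only [ab_cd na] at k1
  simp only [ab_cd nb] at k2
  simp only [ab_cd nc] at k3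
  simp only [ab_cd nr] at k4
  have m1 := chkRow_spec k1 ha ra
  have m2 := chkRow_spec k2 hb rb
  have m3 := chkRow_spec k3 hc rc
  have m4 := chkRow_spec k4 hr rr
  have ba := ha.bd
  have bb := hb.bd
  have bc := hc.bd
  have br := hr.bd
  have oa := ha.one
  have ob := hb.one
  have oc := hc.one
  have or' := hr.one
  have ca := cd_cast na
  have cb := cd_cast nb
  have cc := cd_cast nc
  have cr := cd_cast nr
  have wa' : (((wa + 3510).toNat : ℕ) : ℤ) = wa + 3510 := Int.toNat_of_nonneg (by omega)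
  have wb' : (((wb + 3510).toNat : ℕ) : ℤ) = wb + 3510 := Int.toNat_of_nonneg (by omega)
  have wc' : (((wc + 3510).toNat : ℕ) : ℤ) = wc + 3510 := Int.toNat_of_nonneg (by omega)
  have wr' : (((wr + 3510).toNat : ℕ) : ℤ) = wr + 3510 := Int.toNat_of_nonneg (by omega)
  refine sel_spec h5 m1 m2 m3 m4 (by omega) (by omega) (by omega) (by omega) ?_ ?_
  · zify
    rw [ca, cb, cc, cr, wa', wb', wc', wr']
    linear_combination e1
  · zify
    rw [ca, cb, cc, cr, wa', wb', wc', wr']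
    linear_combination e2

/-- **The search.** -/
theorem search {LA LB : List ℕ} {KN : List KD} {t : List (ℕ × List ℕ)} {rs : ℕ → ℕ → Bool} {q m : ℕ} {D : List ℕ} {K : ℕ}
    (hD : D.Pairwise fun x y => ab x < ab y) (ht : ∀ x ∈ t, chkRow rs x.1 x.2 = true)
    (h : tri D K (gg q m LA LB KN t) = true) {S : ℤ} (hK : (K : ℤ) = 400000000 - S) {a b c r : ℤ}
    (na : a.natAbs < 100000000) (nb : b.natAbs < 100000000)
    (nc : c.natAbs < 100000000) (nr : r.natAbs < 100000000) {wa wb wc wr : ℤ}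
    (ha : Adm a.natAbs wa) (hb : Adm b.natAbs wb) (hc : Adm c.natAbs wc) (hr : Adm r.natAbs wr)
    (ra : rs a.natAbs (wa + 3510).toNat = true) (rb : rs b.natAbs (wb + 3510).toNat = true)
    (rc : rs c.natAbs (wc + 3510).toNat = true) (rr : rs r.natAbs (wr + 3510).toNat = true)
    (ma : cd a ∈ D) (mb : cd b ∈ D) (mc : cd c ∈ D) (hab : a.natAbs ≤ b.natAbs) (hbc : b.natAbs ≤ c.natAbs)
    (hm : m / 2 ^ (r.natAbs % q) % 2 = 1) {kn : KD} (hkn : kn ∈ KN)
    (e0 : S + a + b + c + r = 0)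
    (e1 : (kn.C : ℤ) - 100000000 * kn.W + a * (wa + 3510) + b * (wb + 3510) + c * (wc + 3510) + r * (wr + 3510) = 0)
    (e2 : (kn.C2 : ℤ) - 100000000 * kn.W2 + a * (wa + 3510) ^ 2 + b * (wb + 3510) ^ 2 + c * (wc + 3510) ^ 2 +
      r * (wr + 3510) ^ 2 = 0) :
    All LA (cd a) (cd b) (cd c) (cd r) ∨ All LB (cd a) (cd b) (cd c) (cd r) := by
  have h1 := tri_spec hD h ma mb mc (by rw [ab_cd na, ab_cd nb]; exact hab) (by rw [ab_cd nb, ab_cd nc]; exact hbc)
  have h2 : K - (cd a + (cd b + cd c)) = cd r := by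
    have ca := cd_cast na
    have cb := cd_cast nb
    have cc := cd_cast nc
    have cr := cd_cast nr
    omega
  rw [h2] at h1
  unfold gg at h1
  rw [cond_ft] at h1
  exact inner_spec ht na nb nc nr (h1 (okr_of (by rw [ab_cd nr]; exact hr.dvd) (by rw [ab_cd nr]; exact hr.sq)
    (by rw [ab_cd nr]; exact hm))) ha hb hc hr ra rb rc rr hkn e1 e2

/-- the use of the search: the members of `F` and `Θ` -/
theorem use {p q m : ℕ} (hp1 : 1 < p) {D : List ℕ} {tab : List (ℕ × List ℕ)} {rs : ℕ → ℕ → Bool} {LA LB : List ℕ}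
    {KN : List KD} {K : ℕ} {S : ℤ} (hD : D.Pairwise fun x y => ab x < ab y) (hDD : chkD p q m D = true)
    (ht : allL (fun x : ℕ × List ℕ => chkRow rs x.1 x.2) tab = true) (main : tri D K (gg q m LA LB KN tab) = true)
    (hK : (K : ℤ) = 400000000 - S) {α : Type*} [DecidableEq α] {F : Finset α} (hF : F.card = 3) {c w : α → ℤ} {Θ : α}
    (hadm : ∀ χ, χ ∈ F ∨ χ = Θ → Adm (c χ).natAbs (w χ))
    (hrs : ∀ χ, χ ∈ F ∨ χ = Θ → rs (c χ).natAbs (w χ + 3510).toNat = true)
    (hbit : ∀ χ, χ ∈ F ∨ χ = Θ → m / 2 ^ ((c χ).natAbs % q) % 2 = 1) (hcp : ∀ χ ∈ F, (p : ℤ) ∣ c χ - 1) {kn : KD}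
    (hkn : kn ∈ KN) (e0 : S + ∑ χ ∈ F, c χ + c Θ = 0)
    (e1 : (kn.C : ℤ) - 100000000 * kn.W + ∑ χ ∈ F, c χ * (w χ + 3510) + c Θ * (w Θ + 3510) = 0)
    (e2 : (kn.C2 : ℤ) - 100000000 * kn.W2 + ∑ χ ∈ F, c χ * (w χ + 3510) ^ 2 + c Θ * (w Θ + 3510) ^ 2 = 0) :
    (∀ χ, χ ∈ F ∨ χ = Θ → cd (c χ) ∈ LA) ∨ (∀ χ, χ ∈ F ∨ χ = Θ → cd (c χ) ∈ LB) := by
  obtain ⟨x, y, z, hxy, hxz, hyz, rfl, h1, h2⟩ := sort3 hF fun χ => (c χ).natAbs
  have mx : x ∈ ({x, y, z} : Finset α) := by simp
  have my : y ∈ ({x, y, z} : Finset α) := by simp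
  have mz : z ∈ ({x, y, z} : Finset α) := by simp
  have ax := hadm x (Or.inl mx)
  have ay := hadm y (Or.inl my)
  have az := hadm z (Or.inl mz)
  have aΘ := hadm Θ (Or.inr rfl)
  have hs : ∀ g : α → ℤ, ∑ χ ∈ ({x, y, z} : Finset α), g χ = g x + g y + g z := by
    intro g
    rw [Finset.sum_insert (by simp [hxy, hxz]), Finset.sum_pair hyz]
    ring
  rw [hs] at e0 e1 e2
  have hR := search hD (fun a ha => allL_iff.1 ht a ha) main hK (adm_lt ax) (adm_lt ay) (adm_lt az) (adm_lt aΘ)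
    ax ay az aΘ (hrs x (Or.inl mx)) (hrs y (Or.inl my)) (hrs z (Or.inl mz)) (hrs Θ (Or.inr rfl))
    (chkD_spec hp1 hDD ax (adm_lt ax) (hbit x (Or.inl mx)) (hcp x mx))
    (chkD_spec hp1 hDD ay (adm_lt ay) (hbit y (Or.inl my)) (hcp y my))
    (chkD_spec hp1 hDD az (adm_lt az) (hbit z (Or.inl mz)) (hcp z mz)) h1 h2 (hbit Θ (Or.inr rfl)) hkn
    (by linear_combination e0) (by linear_combination e1) (by linear_combination e2)
  have mem : ∀ s, s ∈ ({x, y, z} : Finset α) ∨ s = Θ → s = x ∨ s = y ∨ s = z ∨ s = Θ := by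
    intro s; simp only [Finset.mem_insert, Finset.mem_singleton]; tauto
  rcases hR with ⟨k1, k2, k3, k4⟩ | ⟨k1, k2, k3, k4⟩
  · left
    intro s hs
    rcases mem s hs with rfl | rfl | rfl | rfl <;> assumption
  · right
    intro s hs
    rcases mem s hs with rfl | rfl | rfl | rfl <;> assumption

end Cfsg.Agent.H494.S8.FiSearch
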